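import Groth.Agent.Lib.ExtDesc2.Basic

/-!
# Descent of the extension across a big open along an arbitrary flat surjection
-/

set_option autoImplicit false
set_option linter.all false
set_option backward.isDefEq.respectTransparency false
set_option backward.isDefEq.respectTransparency.types false
set_option maxHeartbeats 1000000
set_option synthInstance.maxHeartbeats 200000

universe u

open CategoryTheory CategoryTheory.Limits AlgebraicGeometry Opposite TopologicalSpace GrothLib.InvExt
open scoped TensorProduct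

noncomputable section

namespace GrothLib.BigExt26

/-- A stalk of a module with invertible flat pullback is spanned by one germ. -/
theorem exists_germ_span {X X' : Scheme.{u}} (φ : X' ⟶ X) [Flat φ] (N : X.Modules)
    (h : PicF.IsInvertible ((Scheme.Modules.pullback φ).obj N)) (x' : X') :
    ∃ n : N.presheaf.stalk (φ x'), ∀ m : N.presheaf.stalk (φ x'), ∃ c : X.presheaf.stalk (φ x'), m = c • n := by
  obtain ⟨V', t, hxV, ht⟩ := exists_gen_nhd h x'
  let e₁ := LinearEquiv.ofBijective _
    (Ref1.stalk_of_isFrame ((isGen_iff_isFrame (fun _ : Fin 1 => t)).mpr ht) x' hxV)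
  haveI : Module.Free (X'.presheaf.stalk x') (((Scheme.Modules.pullback φ).obj N).presheaf.stalk x') :=
    Module.Free.of_equiv e₁
  haveI : Module.Finite (X'.presheaf.stalk x') (((Scheme.Modules.pullback φ).obj N).presheaf.stalk x') :=
    Module.Finite.equiv e₁
  let B := X.presheaf.stalk (φ x')
  let S := X'.presheaf.stalk x'
  letI : Algebra B S := (φ.stalkMap x').hom.toAlgebra
  haveI : Module.Flat B S := Flat.stalkMap φ x'
  haveI : IsLocalHom (algebraMap B S) := inferInstanceAs (IsLocalHom (φ.stalkMap x').hom)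
  haveI : Module.FaithfullyFlat B S := Module.FaithfullyFlat.of_flat_of_isLocalHom
  let e : ((Scheme.Modules.pullback φ).obj N).presheaf.stalk x' ≃ₗ[S] S ⊗[B] N.presheaf.stalk (φ x') :=
    ((OX.pullStalkIso φ x').app N).toLinearEquiv
  haveI : Module.Finite S (S ⊗[B] N.presheaf.stalk (φ x')) := Module.Finite.equiv e
  haveI : Module.Finite B (N.presheaf.stalk (φ x')) := Module.Finite.of_finite_tensorProduct_of_faithfullyFlat S
  have h1 := FTDesc.stalk_free_of_pullback φ N x'
  haveI : Module.Free B (N.presheaf.stalk (φ x')) := h1.1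
  have hr : Module.finrank B (N.presheaf.stalk (φ x')) = 1 := by
    have h2 := h1.2
    rw [← e₁.finrank_eq, Module.finrank_pi, Fintype.card_fin] at h2
    exact h2.symm
  let b := Module.finBasisOfFinrankEq B (N.presheaf.stalk (φ x')) hr
  refine ⟨b 0, fun m => ⟨b.repr m 0, ?_⟩⟩
  conv_lhs => rw [← b.sum_repr m]
  simp

variable {X : Scheme.{u}} [IsLocallyNoetherian X]

/-- Functions extend across points of depth two. -/
theorem secBij_of_depth {V : X.Opens}
    (hV : ∀ x : X, x ∉ V → (2 : ℕ∞) ≤ LocCoh.depth (X.presheaf.stalk x) (X.presheaf.stalk x)) :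
    ParaPair.SecBij V := by
  intro W
  let M := Coh.structureModule X
  have hE := Euler.isFinLocFree_of_isInvertible (Euler.isInvertible_structure (X := X) : PicF.IsInvertible M)
  haveI := Euler.isQuasicoherent_of_isFinLocFree hE
  haveI : M.IsFiniteType := (Euler.isCoh_of_isFinLocFree hE).2
  have hM : ∀ x : X, x ∉ V → (2 : ℕ∞) ≤ LocCoh.depth (X.presheaf.stalk x) (M.presheaf.stalk x) := by
    intro x hx
    haveI : Module.Free (X.presheaf.stalk x) (M.presheaf.stalk x) := ((LocFree8.isFinLocFree_iff_fp_free M).1 hE).2 x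
    haveI := QuasiFlat.finite_stalk M (Euler.isCoh_of_isFinLocFree hE) x
    exact RamSam.le_depth_of_free (n := 2) (hV x hx) _
  exact Depth.mres_bijective hM W

/-- Invertibility of the direct image from a big open descends along any flat surjection. -/
theorem isInvertible_pushforward {X' : Scheme.{u}} [IsLocallyNoetherian X'] (φ : X' ⟶ X) [Flat φ] [Surjective φ]
    (V : X.Opens)
    (hV : ∀ x : X, x ∉ V → (2 : ℕ∞) ≤ LocCoh.depth (X.presheaf.stalk x) (X.presheaf.stalk x))
    (L : (V : Scheme.{u}).Modules) (hL : PicF.IsInvertible L) (M' : X'.Modules) (hM' : PicF.IsInvertible M')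
    (e : (Scheme.Modules.pullback (φ ⁻¹ᵁ V).ι).obj M' ≅ (Scheme.Modules.pullback (φ ∣_ V)).obj L) :
    PicF.IsInvertible ((Scheme.Modules.pushforward V.ι).obj L) := by
  classical
  let N := (Scheme.Modules.pushforward V.ι).obj L
  haveI := FlatBC.qcoh_of_invertible hL
  haveI : N.IsQuasicoherent := QCoh.isQuasicoherent_pushforward V.ι L
  have hN' : PicF.IsInvertible ((Scheme.Modules.pullback φ).obj N) :=
    ExtDesc2.isInvertible_pullback_pushforward φ V (fun x hx _ => hV x hx) L hL M' hM' e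
  refine isInvertible_of_gens fun x => ?_
  by_cases hxV : x ∈ V
  · obtain ⟨T, g, hxT, -, hg⟩ := exists_gen_nhd_pushforward L hL hxV
    exact ⟨T, g, hxT, hg⟩
  obtain ⟨x', hx'⟩ := φ.surjective x
  obtain ⟨n₀, hn₀⟩ : ∃ n : N.presheaf.stalk x, ∀ m : N.presheaf.stalk x, ∃ c : X.presheaf.stalk x, m = c • n :=
    hx' ▸ exists_germ_span φ N hN' x'
  obtain ⟨U₀, hxU₀, s₀, hs₀⟩ := TopCat.Presheaf.exists_germ_eq N.presheaf n₀
  obtain ⟨_, ⟨U, hU, rfl⟩, hxU, hUU₀⟩ := X.isBasis_affineOpens.exists_subset_of_mem_open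
    (show x ∈ (U₀ : Set X) from hxU₀) U₀.2
  let s : Γ(N, U) := mres N hUU₀ s₀
  have hs : N.presheaf.germ U x hxU s = n₀ :=
    (TopCat.Presheaf.germ_res_apply N.presheaf _ _ _ _).trans hs₀
  -- generators of `N` on principal opens inside `U ⊓ V`, coming from `U`
  have hloc : ∀ y : ((U ⊓ V : X.Opens) : Set X), ∃ (f : Γ(X, U)) (m : Γ(N, U)),
      (y : X) ∈ X.basicOpen f ∧ X.basicOpen f ≤ V ∧ IsGen N (X.basicOpen f) (mres N (X.basicOpen_le f) m) := by
    rintro ⟨y, hyU, hyV⟩
    obtain ⟨T, g, hyT, hTV, hg⟩ := exists_gen_nhd_pushforward L hL hyV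
    obtain ⟨f, hfT, hyf⟩ := hU.exists_basicOpen_le (V := T) ⟨y, hyT⟩ hyU
    obtain ⟨k, m, hm⟩ := Depth.exists_mres_eq (M := N) hU f (mres N hfT g)
    refine ⟨f, m, hyf, hfT.trans hTV, ?_⟩
    have := (hg.restrict hfT).smul_unit (Depth.isUnit_res_pow f k)
    rw [show (mres N (X.basicOpen_le f) m) = _ from hm]
    exact this
  choose f m hf hfV hm using hloc
  obtain ⟨t, ht⟩ := (ParaPair.isCompact_inf V hU.isCompact).elim_finite_subcover
    (fun y : ((U ⊓ V : X.Opens) : Set X) => (X.basicOpen (f y) : Set X)) (fun y => (X.basicOpen (f y)).2)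
    fun y hy => Set.mem_iUnion.2 ⟨⟨y, hy⟩, hf ⟨y, hy⟩⟩
  -- near `x` all of them are multiples of `s`
  have hcomb : ∀ y, ∃ (T : X.Opens) (hTU : T ≤ U) (a : Γ(X, T)), x ∈ T ∧
      mres N hTU (m y) = a • mres N hTU s := by
    intro y
    obtain ⟨c, hc⟩ := hn₀ (N.presheaf.germ U x hxU (m y))
    obtain ⟨T₀, hxT₀, a₀, ha₀⟩ := TopCat.Presheaf.exists_germ_eq X.presheaf c
    have key : N.presheaf.germ (T₀ ⊓ U) x ⟨hxT₀, hxU⟩ (mres N inf_le_right (m y)) =
        N.presheaf.germ (T₀ ⊓ U) x ⟨hxT₀, hxU⟩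
          (fres X (inf_le_left : T₀ ⊓ U ≤ T₀) a₀ • mres N inf_le_right s) := by
      rw [WeakAss.germ_smul (⟨hxT₀, hxU⟩ : x ∈ T₀ ⊓ U)]
      dsimp only [InvExt.mres, InvExt.fres]
      erw [TopCat.Presheaf.germ_res_apply, TopCat.Presheaf.germ_res_apply,
        TopCat.Presheaf.germ_res_apply, ha₀, hs]
      exact hc
    obtain ⟨T, hxT, i₁, i₂, hT⟩ := TopCat.Presheaf.germ_eq N.presheaf x _ _ _ _ key
    refine ⟨T, i₁.le.trans inf_le_right, fres X i₁.le (fres X inf_le_left a₀), hxT, ?_⟩
    have h1 : mres N i₁.le (mres N inf_le_right (m y)) =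
        mres N i₁.le (fres X (inf_le_left : T₀ ⊓ U ≤ T₀) a₀ • mres N inf_le_right s) := hT
    simpa only [mres_smul, mres_mres] using h1
  choose T hTU a hxT hTa using hcomb
  let T' : X.Opens := ⟨(U : Set X) ∩ ⋂ y : t, (T y.1 : Set X),
    U.2.inter (isOpen_iInter_of_finite fun y => (T y.1).2)⟩
  have hT'U : T' ≤ U := fun z hz => hz.1
  have hT'T : ∀ y : t, T' ≤ T y.1 := fun y z hz => Set.mem_iInter.1 hz.2 y
  refine ⟨T', mres N hT'U s, ⟨hxU, Set.mem_iInter.2 fun y => hxT _⟩, ?_⟩
  have hgenV : IsGen N (T' ⊓ V) (mres N (inf_le_left.trans hT'U) s) := by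
    refine isGen_of_cover (fun y : t => T' ⊓ X.basicOpen (f y.1))
      (fun y z hz => ⟨hz.1, (?_ : z ∈ V)⟩) ?_ fun y => ?_
    · exact hfV y.1 hz.2
    · rintro z ⟨hzT, hzV⟩
      obtain ⟨y, hyt, hzy⟩ := Set.mem_iUnion₂.1 (ht ⟨hT'U hzT, hzV⟩)
      exact Opens.mem_iSup.2 ⟨⟨y, hyt⟩, hzT, hzy⟩
    · let D := T' ⊓ X.basicOpen (f y.1)
      have hD := (hm y.1).restrict (inf_le_right : D ≤ X.basicOpen (f y.1))
      rw [mres_mres] at hD
      simp only [mres_mres]
      obtain ⟨c, hc⟩ := hD.exists_smul_eq le_rfl (mres N (inf_le_left.trans hT'U : D ≤ U) s)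
      have hc : mres N (inf_le_left.trans hT'U : D ≤ U) s =
          c • mres N ((inf_le_right : D ≤ X.basicOpen (f y.1)).trans (X.basicOpen_le _)) (m y.1) :=
        hc.trans (congrArg (c • ·) (mres_mres N _ _ _))
      let a' : Γ(X, D) := fres X ((inf_le_left : D ≤ T').trans (hT'T y)) (a y.1)
      have h2 : mres N (inf_le_left.trans hT'U : D ≤ U) (m y.1) = a' • mres N (inf_le_left.trans hT'U : D ≤ U) s := by
        have := congrArg (mres N ((inf_le_left : D ≤ T').trans (hT'T y))) (hTa y.1)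
        simpa only [mres_smul, mres_mres] using this
      have hac : a' * c = 1 := hD.smul_left_injective le_rfl (by
        simp only [mres_mres, one_smul, mul_smul]
        erw [← hc]
        exact h2.symm)
      rw [hc]
      exact hD.smul_unit (IsUnit.of_mul_eq_one a' (by rwa [mul_comm]))
  intro W hW
  have h1 : Function.Bijective (fres X (inf_le_left : W ⊓ V ≤ W)) := secBij_of_depth hV W
  have h2 : Function.Bijective (mres N (inf_le_left : W ⊓ V ≤ W)) := Depth.mres_push_bijective V L W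
  have h3 := hgenV (W ⊓ V) (inf_le_inf_right V hW)
  refine (Function.Bijective.of_comp_iff' h2 _).1 ?_
  convert h3.comp h1 using 1
  funext c
  simp only [Function.comp, mres_smul, mres_mres]
  exact congrArg _ ((mres_mres N hW (inf_le_left : W ⊓ V ≤ W) (mres N hT'U s)).trans (mres_mres N _ _ _))

end GrothLib.BigExt26
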